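import Cfsg.Agent.H954.LD.Row
import Cfsg.Agent.H29.TitsExt

/-!
# S4910: the row of the Tits group (helper451 for helper954)

The character of degree `27` extends to the automorphism group (`H29.TitsExt.extPP_tits`).
-/

set_option autoImplicit false

namespace Cfsg.Agent.H451.LD

open Cfsg Cfsg.Agent.H954.LD Cfsg.Agent.H671.H5

universe u

theorem copRow_of_extPP {S : Type u} [Group S] [Finite S] (h : Cfsg.Agent.H29.MinExt.ExtPP S) : CopRow S := by
  obtain ⟨ψ, hψ, hirr, d, hd, h1⟩ := h
  right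
  refine ⟨⟨_, hirr⟩, ?_, ?_⟩
  · have h2 : charDegree (fun s : S => ψ (MulAut.conj s)) = d :=
      Cfsg.Agent.Blocks.Basic.charDegree_of_eq (by rw [map_one, h1])
    change IsPrimePow (charDegree (fun s : S => ψ (MulAut.conj s)))
    rw [h2]
    exact hd
  · exact ⟨⟨ψ, Cfsg.Agent.CharactersDeep.MaxInduced.isIrr_of_comp (MulAut.conj : S →* MulAut S) hψ hirr⟩, fun s => rfl⟩

/-- **the row of the Tits group** -/
theorem row_Tits {S : Type u} [Group S] [Finite S] [IsSimpleGroup S] (_hna : ¬ IsMulCommutative S)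
    (h : Lie.IsoTits S) : CopRow S :=
  copRow_of_extPP (Cfsg.Agent.H29.TitsExt.extPP_tits h)

end Cfsg.Agent.H451.LD
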